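import Groth.Prelude.Def_SuppFam
import Groth.Agent.Lib.LocZ.Basic
import Groth.Agent.Lib.SheafCoh.ExtDerived
import Groth.Agent.Lib.SheafCoh.DerivedComp

/-! # Local cohomology sheaves as sheafified supports -/

set_option autoImplicit false
set_option backward.isDefEq.respectTransparency false

universe u

open CategoryTheory CategoryTheory.Limits Opposite TopologicalSpace

namespace GrothLib.HZshLC25

open GrothLib

variable {X : TopCat.{u}} {W V : Opens X} (h : W ≤ V)

/-- `V' ↦ ℤ_{V ∩ V'}/ℤ_{W ∩ V'}`. -/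
noncomputable def G : Opens X ⥤ CohTop.Ab X where
  obj V' := LocCohZ.zq (inf_le_inf_right V' h : W ⊓ V' ≤ V ⊓ V')
  map {A B} g := LocCohZ.zqMap _ _ (inf_le_inf_left W g.le) (inf_le_inf_left V g.le)
  map_id A := SuppFam.zqMap_id _
  map_comp f g := (SuppFam.zqMap_comp _ _ _ _ _ _ _).symm

theorem openFun_preimage_eq (A : Opens X) :
    (SheafCoh.openFun V).obj ((Opens.map (CohCx.incl V)).obj A) = V ⊓ A := by
  ext x
  exact ⟨fun ⟨y, hy, e⟩ => e ▸ ⟨y.2, hy⟩, fun hx => ⟨⟨x, hx.1⟩, hx.2, rfl⟩⟩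

/-- Sections of the sheaf of sections with supports. -/
noncomputable def toSect (F : CohTop.Ab X) (A : Opens X) :
    ((SuppFam.sectSuppLC h).obj F).obj.obj (op A) ⟶ F.obj.obj (op (V ⊓ A)) :=
  LocZ.ι (SuppFam.inOpen V W) (CohTop.restr F V) ((Opens.map (CohCx.incl V)).obj A) ≫
    F.obj.map (eqToHom (openFun_preimage_eq (V := V) A).symm).op

include h in
theorem vanish_iff (F : CohTop.Ab X) (A : Opens X)
    (s : (CohTop.restr F V).obj.obj (op ((Opens.map (CohCx.incl V)).obj A))) :
    (CohTop.restr F V).obj.map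
        (homOfLE (inf_le_left : (Opens.map (CohCx.incl V)).obj A ⊓ SuppFam.inOpen V W ≤ (Opens.map (CohCx.incl V)).obj A)).op s = 0 ↔
      F.obj.map (homOfLE (inf_le_inf_right A h : W ⊓ A ≤ V ⊓ A)).op
        (F.obj.map (eqToHom (openFun_preimage_eq (V := V) A).symm).op s) = 0 := by
  have e : (SheafCoh.openFun V).obj ((Opens.map (CohCx.incl V)).obj A ⊓ SuppFam.inOpen V W) = W ⊓ A := by
    ext x
    exact ⟨fun ⟨y, hy, e⟩ => e ▸ ⟨hy.2, hy.1⟩, fun hx => ⟨⟨x, h hx.1⟩, ⟨hx.2, hx.1⟩, rfl⟩⟩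
  rw [← ConcreteCategory.comp_apply, ← F.obj.map_comp]
  constructor
  · intro hs
    have := congrArg (F.obj.map (eqToHom e.symm).op) hs
    rw [map_zero] at this
    refine Eq.trans ?_ this
    exact ConcreteCategory.congr_hom (F.obj.map_comp ((SheafCoh.openFun V).map (homOfLE _)).op (eqToHom e.symm).op) s
  · intro hs
    have := congrArg (F.obj.map (eqToHom e).op) hs
    rw [map_zero, ← ConcreteCategory.comp_apply, ← F.obj.map_comp] at this
    exact this

theorem toSect_injective (F : CohTop.Ab X) (A : Opens X) : Function.Injective (toSect h F A) :=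
  ((ConcreteCategory.isIso_iff_bijective
      (F.obj.map (eqToHom (openFun_preimage_eq (V := V) A).symm).op)).1 inferInstance).1.comp
    (LocZ.ι_injective (SuppFam.inOpen V W) (CohTop.restr F V) ((Opens.map (CohCx.incl V)).obj A))

theorem toSect_mem (F : CohTop.Ab X) (A : Opens X) (t) :
    toSect h F A t ∈ LocCohZ.sectZ F (inf_le_inf_right A h : W ⊓ A ≤ V ⊓ A) :=
  AddMonoidHom.mem_ker.2 ((vanish_iff h F A _).1 (LocZ.ι_vanish (SuppFam.inOpen V W) (CohTop.restr F V) _ t))

theorem toSect_natural_open (F : CohTop.Ab X) {A B : Opens X} (g : B ≤ A) (t) :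
    toSect h F B (((SuppFam.sectSuppLC h).obj F).obj.map (homOfLE g).op t) =
      F.obj.map (homOfLE (inf_le_inf_left V g)).op (toSect h F A t) := by
  have e := ConcreteCategory.congr_hom
    ((kernel.ι (LocZ.η (SuppFam.inOpen V W) (CohTop.restr F V))).hom.naturality
      ((Opens.map (CohCx.incl V)).map (homOfLE g)).op) t
  refine (congrArg (F.obj.map (eqToHom (openFun_preimage_eq (V := V) B).symm).op) e).trans ?_
  change (F.obj.map _ ≫ F.obj.map _) _ = (F.obj.map _ ≫ F.obj.map _) _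
  rw [← F.obj.map_comp, ← F.obj.map_comp]
  rfl

theorem toSect_natural {F F' : CohTop.Ab X} (φ : F ⟶ F') (A : Opens X) (t) :
    toSect h F' A (((SuppFam.sectSuppLC h).map φ).hom.app (op A) t) = φ.hom.app (op (V ⊓ A)) (toSect h F A t) := by
  refine (congrArg (F'.obj.map (eqToHom (openFun_preimage_eq (V := V) A).symm).op)
    (LocZ.sectSuppF_map_ι (SuppFam.inOpen V W) ((CohTop.restrFunctor V).map φ) _ t)).trans ?_
  exact (ConcreteCategory.congr_hom (φ.hom.naturality (eqToHom (openFun_preimage_eq (V := V) A).symm).op) _).symm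

/-- The morphism out of `ℤ_{V∩A}/ℤ_{W∩A}` given by a section with supports. -/
noncomputable def toHom (F : CohTop.Ab X) (A : Opens X) :
    ((SuppFam.sectSuppLC h).obj F).obj.obj (op A) ⟶ AddCommGrpCat.of ((G h).obj A ⟶ F) :=
  AddCommGrpCat.ofHom ((AddMonoidHom.mk'
    (fun s => ((LocCohZ.sect0Equiv F (inf_le_inf_right A h : W ⊓ A ≤ V ⊓ A)).symm.trans Abelian.Ext.addEquiv₀) s)
      (fun a b => map_add _ a b)).comp
    (AddMonoidHom.codRestrict (toSect h F A).hom (LocCohZ.sectZ F _) (toSect_mem h F A)))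

theorem π_toHom (F : CohTop.Ab X) (A : Opens X) (t) :
    cokernel.π (CohCx.freeSheafMap (Opens.grothendieckTopology X) (homOfLE (inf_le_inf_right A h : W ⊓ A ≤ V ⊓ A))) ≫
      toHom h F A t = CohFree.ofSect (Opens.grothendieckTopology X) (V ⊓ A) F (toSect h F A t) := by
  change _ ≫ Abelian.Ext.addEquiv₀ ((LocCohZ.sect0Equiv F _).symm _) = _
  change _ ≫ Abelian.Ext.addEquiv₀ (Abelian.Ext.addEquiv₀.symm _) = _
  rw [AddEquiv.apply_symm_apply, cokernel.π_desc]
  rfl

theorem toHom_bijective (F : CohTop.Ab X) (A : Opens X) : Function.Bijective (toHom h F A) := by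
  refine (((LocCohZ.sect0Equiv F (inf_le_inf_right A h : W ⊓ A ≤ V ⊓ A)).symm.trans
    Abelian.Ext.addEquiv₀).bijective).comp ⟨fun a b e => toSect_injective h F A (congrArg Subtype.val e), fun s => ?_⟩
  obtain ⟨s₀, hs₀⟩ := ((ConcreteCategory.isIso_iff_bijective
    (F.obj.map (eqToHom (openFun_preimage_eq (V := V) A).symm).op)).1 inferInstance).2 s.1
  obtain ⟨t, ht⟩ := LocZ.exists_lift (SuppFam.inOpen V W) (CohTop.restr F V) _ s₀ ((vanish_iff h F A s₀).2 (by
    rw [hs₀]; exact s.2))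
  exact ⟨t, Subtype.ext ((congrArg (F.obj.map (eqToHom (openFun_preimage_eq (V := V) A).symm).op) ht).trans hs₀)⟩

theorem toHom_natural_open (F : CohTop.Ab X) {A B : Opens X} (g : B ≤ A) (t) :
    toHom h F B (((SuppFam.sectSuppLC h).obj F).obj.map (homOfLE g).op t) =
      (G h).map (homOfLE g) ≫ toHom h F A t := by
  let J := Opens.grothendieckTopology X
  refine (cancel_epi (cokernel.π (CohCx.freeSheafMap J (homOfLE (inf_le_inf_right B h : W ⊓ B ≤ V ⊓ B))))).1 ?_
  refine (π_toHom h F B _).trans ?_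
  refine Eq.trans ?_ ((cokernel.π_desc_assoc _ _ _ _).trans (Category.assoc _ _ _)).symm
  refine Eq.trans ?_ (congrArg (CohCx.freeSheafMap J (homOfLE (inf_le_inf_left V g)) ≫ ·) (π_toHom h F A t)).symm
  rw [toSect_natural_open h F g, ← CohFree.ofSect_evalGen J (V ⊓ B) F
    (CohCx.freeSheafMap J (homOfLE (inf_le_inf_left V g)) ≫ _), CohFree.evalGen_freeSheafMap_comp,
    CohFree.evalGen_ofSect]

theorem toHom_natural {F F' : CohTop.Ab X} (φ : F ⟶ F') (A : Opens X) (t) :
    toHom h F' A (((SuppFam.sectSuppLC h).map φ).hom.app (op A) t) = toHom h F A t ≫ φ := by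
  let J := Opens.grothendieckTopology X
  refine (cancel_epi (cokernel.π (CohCx.freeSheafMap J (homOfLE (inf_le_inf_right A h : W ⊓ A ≤ V ⊓ A))))).1 ?_
  refine (π_toHom h F' A _).trans ?_
  rw [toSect_natural h φ A t]
  refine Eq.trans ?_ ((congrArg (· ≫ φ) (π_toHom h F A t)).symm.trans (Category.assoc _ _ _))
  apply (CohFree.homEquivSect J (V ⊓ A) F').injective
  refine (CohFree.evalGen_ofSect J (V ⊓ A) F' _).trans ?_
  exact (congrArg (φ.hom.app (op (V ⊓ A))) (CohFree.evalGen_ofSect J (V ⊓ A) F (toSect h F A t))).symm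

/-- Sections with supports corepresented. -/
noncomputable def sectIso :
    SuppFam.sectSuppLC h ⋙ sheafToPresheaf (Opens.grothendieckTopology X) AddCommGrpCat.{u} ≅
      SheafCoh.homPre (G h) :=
  NatIso.ofComponents
    (fun F => NatIso.ofComponents
      (fun A => @asIso _ _ _ _ (toHom h F A.unop)
        ((ConcreteCategory.isIso_iff_bijective _).2 (toHom_bijective h F A.unop)))
      (fun {A B} g => by
        ext t
        exact toHom_natural_open h F g.unop.le t))
    (fun {F F'} φ => by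
      ext A t
      exact toHom_natural h φ A.unop t)

theorem nonempty_HZshLC_iso (F : CohTop.Ab X) (q : ℕ) :
    Nonempty ((SuppFam.HZshLC h q).obj F ≅
      (presheafToSheaf (Opens.grothendieckTopology X) AddCommGrpCat.{u}).obj (SuppFam.HZpre F q h)) := by
  let sh := presheafToSheaf (Opens.grothendieckTopology X) AddCommGrpCat.{u}
  have : sh.PreservesHomology := Functor.preservesHomologyOfExact _
  let e : SuppFam.sectSuppLC h ≅ SheafCoh.homPre (G h) ⋙ sh :=
    Functor.isoWhiskerLeft (SuppFam.sectSuppLC h) (sheafificationNatIso _ AddCommGrpCat.{u}) ≪≫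
      Functor.isoWhiskerRight (sectIso h) sh
  exact ⟨SheafCoh.rightDerivedPostExactIso (SuppFam.sectSuppLC h) (SheafCoh.homPre (G h)) sh e F q ≪≫
    sh.mapIso (SheafCoh.rightDerivedHomPreIso (G h) F q ≪≫
      NatIso.ofComponents (fun A => (SheafCoh.extPreEquiv (G h) F q A.unop).toAddCommGrpIso)
        (fun {A B} g => by ext x; rfl))⟩

end GrothLib.HZshLC25
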